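import Cfsg.Agent.H840.EP.Base
import Cfsg.Agent.H489.DegTh
import Cfsg.Agent.S2083

/-!
# S3499-V: the Thompson group (helper840)

Characteristic not 7: dimension at least 24 (`7²` with orbits of length 24); characteristic 7: dimension at least 16.
-/

set_option autoImplicit false
set_option maxRecDepth 100000

namespace Cfsg.Agent.H840.EP.Th

open Subgroup Cfsg Cfsg.Agent.H284 Cfsg.Agent.H419.EP Cfsg.Agent.H59.EP Cfsg.Agent.H840.EP
open Cfsg.Agent.H912.Bd Cfsg.Agent.H915.LD Cfsg.Agent.H921.Spor Cfsg.Agent.H489.Deg.Th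

theorem th_seven : Orb 7 24 Cfsg.Spor.Th :=
  w.orb_gen (r := 7) (d := 2) (m := 24)
    (X := [[6, 6], [2, 3, 4, 3, 4]])
    (G := [[8], [2, 4], [1, 2, 1, 3],
      [3, 5, 4, 7, 5, 4, 3, 2, 4, 3, 7, 5, 4, 3, 6, 5, 4, 2, 3, 5, 4, 3, 6, 5, 6, 8]])
    (B := [[[4, 0], [0, 1]], [[6, 0], [0, 6]], [[1, 0], [0, 4]], [[5, 1], [2, 4]]])
    (S := [[], [1], [2, 0, 0], [3, 0, 0], [2, 2, 0], [3, 2, 0], [0, 3, 0], [2, 3, 0], [3, 3, 0], [3, 2, 2], [0, 3, 2],
      [2, 3, 2], [3, 0, 3], [2, 2, 3], [3, 2, 3], [3, 1, 0, 0], [2, 2, 1, 0], [3, 2, 1, 0], [2, 3, 1, 0],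
      [3, 3, 1, 0], [3, 2, 2, 1], [0, 3, 2, 1], [2, 3, 2, 1], [2, 2, 3, 1]]) (c₀ := [1, 0])
    (by norm_num) (by decide +kernel)

/-- the factorisation of the order -/
def l : List (ℕ × ℕ) := [(2, 15), (3, 10), (5, 3), (7, 2), (13, 1), (19, 1), (31, 1)]

variable {Q : Type} [Group Q] [Finite Q] {A : Subgroup Q} {Γ : Subgroup (MulAut Q)} {ι : Type} [Fintype ι]
    [DecidableEq ι] {F : Type} [Field F] [Fintype F] {S P : Subgroup (GL ι F)}

theorem row (hg : TwoGen.{0}) (b : Big A Γ S P) (h : Spor.IsoTh (socle P)) : False := by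
  obtain ⟨e⟩ := h
  have hcT : Nat.card Cfsg.Spor.Th = 90745943887872000 := Cfsg.Agent.Th.Main1700.isTh.2
  have : Finite Cfsg.Spor.Th := Nat.finite_of_card_ne_zero (by rw [hcT]; norm_num)
  have hc : Nat.card A = (l.map fun x => x.1 ^ x.2).prod := by
    rw [card_A b e Cfsg.Agent.S2083.result, hcT]
    decide +kernel
  have hi := index_le_ubt hg b l (by decide +kernel) (by decide +kernel) hc (by decide +kernel)
  by_cases h7 : (7 : F) = 0
  · have h2 : ((2 : ℕ) : F) ≠ 0 := by
      intro h2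
      have h3 : (1 : F) = (7 : F) - 3 * ((2 : ℕ) : F) := by push_cast; ring
      rw [h7, h2, mul_zero, sub_zero] at h3
      exact one_ne_zero h3
    have hn : 16 ≤ Fintype.card ι :=
      le_card b e Cfsg.Agent.S2057.result (r := 2) (by norm_num) (th_two.bd (F := F) (by norm_num) h2)
    have hq : 7 ≤ Fintype.card F := by
      have h3 : ((7 : ℕ) : F) = 0 := by exact_mod_cast h7
      have : Fact (Nat.Prime 7) := ⟨by norm_num⟩
      have : CharP F 7 := by
        obtain ⟨p, hp⟩ := CharP.exists F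
        have h4 : p ∣ 7 := (CharP.cast_eq_zero_iff F p 7).1 h3
        rcases (Nat.dvd_prime (by norm_num)).1 h4 with rfl | rfl
        · exact absurd (CharP.cast_eq_zero F 1) (by rw [Nat.cast_one]; exact one_ne_zero)
        · exact hp
      obtain ⟨k, -, hk⟩ := FiniteField.card F 7
      rw [hk]
      exact Nat.le_self_pow k.ne_zero 7
    exact kill b hc hi hq hn (by norm_num) (by decide +kernel)
  · have hn : 24 ≤ Fintype.card ι :=
      le_card b e Cfsg.Agent.S2057.result (r := 7) (by norm_num)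
        (th_seven.bd (F := F) (by norm_num) (by exact_mod_cast h7))
    exact kill b hc hi b.two_le hn (by norm_num) (by decide +kernel)

/-- the target in the form of `H419.EP.Big` -/
theorem target (hg : TwoGen.{0}) : BigOf (fun L _ => Spor.IsoTh L) := fun b h => row hg b h

end Cfsg.Agent.H840.EP.Th
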