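import Mathlib
import Cfsg.Prelude.Def_GeometricClasses

/-!
# The torus element of order 89 attached to an element of order 23 over the field of order 2 (helper840)

`T x = Σ x ^ i`, `i ∈ {1, 3, 5, 6, 9, 10, 11, 12, 15}`, `x ^ 23 = 1`, in a ring of characteristic 2:
`T x * T (x ^ 22) = 1`, `T x ^ 2 = T (x ^ 2)`, `T x ^ 89 = 1`, `T x = 1 → x = 1`.
-/

set_option autoImplicit false

namespace Cfsg.Agent.H840.T23

open Matrix Cfsg Cfsg.Geo
open scoped commutatorElement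

section ring

variable {R : Type*} [Ring R]

/-- evaluation of an element of the group semiring of the cyclic group of order 23 -/
def E (x : R) (a : ZMod 23 → ℕ) : R := ∑ k, a k • x ^ k.val

theorem pow_val {x : R} (hx : x ^ 23 = 1) (n : ℕ) : x ^ (n : ZMod 23).val = x ^ n := by
  rw [ZMod.val_natCast, ← pow_mod_eq hx]
where
  pow_mod_eq {x : R} (hx : x ^ 23 = 1) {n : ℕ} : x ^ n = x ^ (n % 23) := by
    conv_lhs => rw [← Nat.div_add_mod n 23, pow_add, pow_mul, hx, one_pow, one_mul]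

theorem pow_add_val {x : R} (hx : x ^ 23 = 1) (i j : ZMod 23) : x ^ i.val * x ^ j.val = x ^ (i + j).val := by
  rw [← pow_add, ← pow_val hx (i.val + j.val)]
  rw [Nat.cast_add, ZMod.natCast_zmod_val, ZMod.natCast_zmod_val]

theorem E_mul {x : R} (hx : x ^ 23 = 1) (a b : ZMod 23 → ℕ) :
    E x a * E x b = E x (fun k => ∑ i, a i * b (k - i)) := by
  have h1 : E x (fun k => ∑ i, a i * b (k - i)) = ∑ i, ∑ k, (a i * b (k - i)) • x ^ k.val := by
    rw [Finset.sum_comm]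
    simp only [E, Finset.sum_smul]
  rw [h1, E, E, Finset.sum_mul]
  refine Finset.sum_congr rfl fun i _ => ?_
  rw [← Equiv.sum_comp (Equiv.addLeft i) (fun k => (a i * b (k - i)) • x ^ k.val), Finset.mul_sum]
  refine Finset.sum_congr rfl fun j _ => ?_
  rw [Equiv.coe_addLeft]
  change a i • x ^ i.val * b j • x ^ j.val = (a i * b (i + j - i)) • x ^ (i + j).val
  rw [add_sub_cancel_left, smul_mul_smul_comm, pow_add_val hx]

theorem E_congr (x : R) (h2 : (2 : R) = 0) {a b : ZMod 23 → ℕ} (h : ∀ k, a k % 2 = b k % 2) : E x a = E x b := by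
  have h1 : ∀ n : ℕ, ∀ z : R, n • z = (n % 2) • z := by
    intro n z
    conv_lhs => rw [← Nat.div_add_mod n 2]
    rw [add_smul, mul_comm, mul_smul, two_smul, ← two_mul, h2, zero_mul, smul_zero, zero_add]
  refine Finset.sum_congr rfl fun k _ => ?_
  rw [h1 (a k), h1 (b k), h k]

theorem E_pow {x : R} (hx : x ^ 23 = 1) (r : ℕ) (r' : ZMod 23) (hr : (r : ZMod 23) * r' = 1) (a : ZMod 23 → ℕ) :
    E (x ^ r) a = E x (fun k => a (r' * k)) := by
  have hr' : r' * (r : ZMod 23) = 1 := by rw [mul_comm]; exact hr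
  let e : ZMod 23 ≃ ZMod 23 :=
    { toFun := fun k => (r : ZMod 23) * k
      invFun := fun k => r' * k
      left_inv := fun k => by change r' * ((r : ZMod 23) * k) = k; rw [← mul_assoc, hr', one_mul]
      right_inv := fun k => by change (r : ZMod 23) * (r' * k) = k; rw [← mul_assoc, hr, one_mul] }
  change ∑ k, a k • (x ^ r) ^ k.val = ∑ k, a (r' * k) • x ^ k.val
  rw [← Equiv.sum_comp e (fun k => a (r' * k) • x ^ k.val)]
  refine Finset.sum_congr rfl fun k _ => ?_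
  change a k • (x ^ r) ^ k.val = a (r' * ((r : ZMod 23) * k)) • x ^ ((r : ZMod 23) * k).val
  rw [← mul_assoc, hr', one_mul, ← pow_mul, ← pow_val hx (r * k.val)]
  congr 3
  rw [Nat.cast_mul, ZMod.natCast_zmod_val]

/-- indicator functions -/
def ind (l : List ℕ) (k : ZMod 23) : ℕ := if k.val ∈ l then 1 else 0

theorem conv (x : R) (hx : x ^ 23 = 1) (h2 : (2 : R) = 0) (a b c : ZMod 23 → ℕ)
    (h : ∀ k, (∑ i, a i * b (k - i)) % 2 = c k % 2) : E x a * E x b = E x c := by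
  rw [E_mul hx]
  exact E_congr x h2 h

/-- the support of `T` -/
def t : ZMod 23 → ℕ := ind [1, 3, 5, 6, 9, 10, 11, 12, 15]

/-- the torus element -/
def T (x : R) : R := E x t

theorem E_one (x : R) : E x (ind [0]) = 1 := by
  rw [E, Finset.sum_eq_single 0]
  · have h1 : ind [0] 0 = 1 := by decide
    rw [h1, one_smul, ZMod.val_zero, pow_zero]
  · intro k _ hk
    have h1 : ind [0] k = 0 := by
      rw [ind, if_neg]
      intro h
      rw [List.mem_singleton] at h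
      exact hk ((ZMod.val_eq_zero k).1 h)
    rw [h1, zero_smul]
  · intro h
    exact absurd (Finset.mem_univ _) h

theorem T_sq {x : R} (hx : x ^ 23 = 1) (h2 : (2 : R) = 0) : T (x ^ 2) = T x ^ 2 := by
  rw [T, T, pow_two (E x t), E_pow hx 2 12 (by decide)]
  exact (conv x hx h2 _ _ _ (by decide +kernel)).symm

theorem T_inv {x : R} (hx : x ^ 23 = 1) (h2 : (2 : R) = 0) : T x * T (x ^ 22) = 1 := by
  rw [T, T, E_pow hx 22 22 (by decide), ← E_one x]
  exact conv x hx h2 _ _ _ (by decide +kernel)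

theorem T_iter {x : R} (hx : x ^ 23 = 1) (h2 : (2 : R) = 0) (j : ℕ) : T (x ^ 2 ^ j) = T x ^ 2 ^ j := by
  induction j with
  | zero => rw [pow_zero, pow_one, pow_one]
  | succ j ih =>
    rw [pow_succ, pow_mul, T_sq (by rw [← pow_mul, mul_comm, pow_mul, hx, one_pow]) h2, ih, ← pow_mul]

/-- `T ^ 89 = 1` -/
theorem T_pow {x : R} (hx : x ^ 23 = 1) (h2 : (2 : R) = 0) : T x ^ 89 = 1 := by
  have h64 : T x ^ 64 = E x (fun k => t (9 * k)) := by
    rw [show 64 = 2 ^ 6 from rfl, ← T_iter hx h2, T, E_pow hx (2 ^ 6) 9 (by decide)]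
  have h16 : T x ^ 16 = E x (fun k => t (13 * k)) := by
    rw [show 16 = 2 ^ 4 from rfl, ← T_iter hx h2, T, E_pow hx (2 ^ 4) 13 (by decide)]
  have h8 : T x ^ 8 = E x (fun k => t (3 * k)) := by
    rw [show 8 = 2 ^ 3 from rfl, ← T_iter hx h2, T, E_pow hx (2 ^ 3) 3 (by decide)]
  have h80 : T x ^ 80 = E x (ind [0, 1, 2, 3, 5, 8, 10, 12, 13, 17, 19, 20, 22]) := by
    rw [show 80 = 64 + 16 from rfl, pow_add, h64, h16]
    exact conv x hx h2 _ _ _ (by decide +kernel)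
  have h88 : T x ^ 88 = E x (ind [8, 11, 12, 13, 14, 17, 18, 20, 22]) := by
    rw [show 88 = 80 + 8 from rfl, pow_add, h80, h8]
    exact conv x hx h2 _ _ _ (by decide +kernel)
  rw [pow_succ, h88, T, ← E_one x]
  exact conv x hx h2 _ _ _ (by decide +kernel)

theorem E_X (x : R) : E x (ind [1]) = x := by
  rw [E, Finset.sum_eq_single 1]
  · have h1 : ind [1] 1 = 1 := by decide
    have h2 : (1 : ZMod 23).val = 1 := by decide
    rw [h1, one_smul, h2, pow_one]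
  · intro k _ hk
    have h1 : ind [1] k = 0 := by
      rw [ind, if_neg]
      intro h
      rw [List.mem_singleton] at h
      apply hk
      rw [← ZMod.natCast_zmod_val k, h, Nat.cast_one]
    rw [h1, zero_smul]
  · intro h
    exact absurd (Finset.mem_univ _) h

theorem E_add (x : R) (a b : ZMod 23 → ℕ) : E x (fun k => a k + b k) = E x a + E x b := by
  simp only [E, add_smul, Finset.sum_add_distrib]

theorem T_ne {x : R} (hx : x ^ 23 = 1) (h2 : (2 : R) = 0) (h : T x = 1) : x = 1 := by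
  have h1 : E x (ind [0, 2, 3, 6, 8, 11, 12, 13, 16, 18, 21, 22]) * T x =
      E x (fun k => (ind [0, 2, 3, 6, 8, 11, 12, 13, 16, 18, 21, 22] k + ind [0] k) + ind [1] k) :=
    conv x hx h2 _ _ _ (by decide +kernel)
  rw [E_add, E_add, h, mul_one, add_assoc, left_eq_add, E_one, E_X] at h1
  have h3 : x = -1 := by rw [eq_neg_iff_add_eq_zero, add_comm]; exact h1
  rw [h3, neg_eq_iff_add_eq_zero, one_add_one_eq_two, h2]

/-- `T` fixes the image of `1 + x + ... + x ^ 22` -/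
theorem T_norm {x : R} (hx : x ^ 23 = 1) (h2 : (2 : R) = 0) : T x * E x (fun _ => 1) = E x (fun _ => 1) :=
  conv x hx h2 _ _ _ (by decide +kernel)

theorem E_comm (x : R) (a : ZMod 23 → ℕ) : E x a * x = x * E x a := by
  rw [E, Finset.sum_mul, Finset.mul_sum]
  refine Finset.sum_congr rfl fun k _ => ?_
  rw [smul_mul_assoc, mul_smul_comm, ← pow_succ, ← pow_succ']

/-- the Galois action -/
theorem T_gal {x : R} (hx : x ^ 23 = 1) (h2 : (2 : R) = 0) {k : ℕ} (h0 : ¬ k ≡ 0 [MOD 23]) (h1 : ¬ k ≡ 1 [MOD 23]) :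
    ∃ j : ℕ, T (x ^ k) = T x ^ j ∧ ¬ j ≡ 1 [MOD 89] := by
  have hk : ∀ m : Fin 23, ¬ m.val = 0 → ¬ m.val = 1 → ∃ j : Fin 11, (2 ^ j.val % 23 = m.val ∧ ¬ 2 ^ j.val % 89 = 1) ∨
      ((22 * 2 ^ j.val) % 23 = m.val ∧ ¬ (88 * 2 ^ j.val) % 89 = 1) := by decide +kernel
  obtain ⟨⟨j, _⟩, h⟩ := hk ⟨k % 23, Nat.mod_lt _ (by norm_num)⟩ h0 h1
  dsimp only at h
  have hmod : ∀ m : ℕ, m % 23 = k % 23 → x ^ k = x ^ m := by
    intro m hm
    rw [pow_val.pow_mod_eq hx (n := k), ← hm, ← pow_val.pow_mod_eq hx]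
  rcases h with ⟨h, h'⟩ | ⟨h, h'⟩
  · exact ⟨2 ^ j, by rw [hmod _ h, T_iter hx h2], h'⟩
  · refine ⟨88 * 2 ^ j, ?_, h'⟩
    have h3 : (x ^ 2 ^ j) ^ 23 = 1 := by rw [← pow_mul, mul_comm, pow_mul, hx, one_pow]
    have h4 : T x ^ 2 ^ j * T (x ^ k) = 1 := by
      rw [hmod _ h, mul_comm 22, pow_mul, ← T_iter hx h2]
      exact T_inv h3 h2
    have h5 : T x ^ (88 * 2 ^ j) * T x ^ 2 ^ j = 1 := by
      rw [← pow_add, show 88 * 2 ^ j + 2 ^ j = 89 * 2 ^ j by ring, pow_mul, T_pow hx h2, one_pow]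
    calc T (x ^ k) = (T x ^ (88 * 2 ^ j) * T x ^ 2 ^ j) * T (x ^ k) := by rw [h5, one_mul]
      _ = T x ^ (88 * 2 ^ j) := by rw [mul_assoc, h4, mul_one]

end ring

section form

variable {ι : Type} [Fintype ι] [DecidableEq ι] {F : Type} [Field F]

omit [Fintype ι] in
theorem two_mat (h2 : (2 : F) = 0) : (2 : Matrix ι ι F) = 0 := by
  have h4 : (2 : Matrix ι ι F) = (2 : F) • (1 : Matrix ι ι F) := by
    rw [two_smul, one_add_one_eq_two]
  rw [h4, h2, zero_smul]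

theorem pow_mat {x : GL ι F} (hx : x ^ 23 = 1) : (x : Matrix ι ι F) ^ 23 = 1 := by
  rw [← Units.val_pow_eq_pow_val, hx, Units.val_one]

/-- the torus element in the linear group -/
def TGL (h2 : (2 : F) = 0) (x : GL ι F) (hx : x ^ 23 = 1) : GL ι F where
  val := T (x : Matrix ι ι F)
  inv := T ((x : Matrix ι ι F) ^ 22)
  val_inv := T_inv (pow_mat hx) (two_mat h2)
  inv_val := by
    have h3 : ((x : Matrix ι ι F) ^ 22) ^ 23 = 1 := by
      rw [← pow_mul, mul_comm, pow_mul, pow_mat hx, one_pow]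
    have h4 : ((x : Matrix ι ι F) ^ 22) ^ 22 = x := by
      rw [← pow_mul, show 22 * 22 = 23 * 21 + 1 from rfl, pow_succ, pow_mul, pow_mat hx, one_pow, one_mul]
    have h5 := T_inv h3 (two_mat h2)
    rwa [h4] at h5

theorem E_mulVec (x : Matrix ι ι F) (a : ZMod 23 → ℕ) (v : ι → F) : E x a *ᵥ v = ∑ k, a k • ((x ^ k.val) *ᵥ v) := by
  rw [E, Matrix.sum_mulVec]
  refine Finset.sum_congr rfl fun k _ => ?_
  rw [Matrix.smul_mulVec]

theorem form_E {f : (ι → F) → (ι → F) → F} (hf : IsBilinearForm f) {x y : Matrix ι ι F}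
    (h : ∀ u v, f (x *ᵥ u) v = f u (y *ᵥ v)) (a : ZMod 23 → ℕ) (u v : ι → F) :
    f (E x a *ᵥ u) v = f u (E y a *ᵥ v) := by
  have hp : ∀ (n : ℕ) (u v : ι → F), f ((x ^ n) *ᵥ u) v = f u ((y ^ n) *ᵥ v) := by
    intro n
    induction n with
    | zero => intro u v; rw [pow_zero, pow_zero, Matrix.one_mulVec, Matrix.one_mulVec]
    | succ n ih =>
      intro u v
      rw [pow_succ, ← Matrix.mulVec_mulVec, ih, h, Matrix.mulVec_mulVec, ← pow_succ']
  let fl : (ι → F) →+ F := AddMonoidHom.mk' (fun u => f u v) (fun a b => hf.add_left a b v)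
  let fr : (ι → F) →+ F := AddMonoidHom.mk' (fun v => f u v) (fun a b => hf.add_right u a b)
  change fl (E x a *ᵥ u) = fr (E y a *ᵥ v)
  rw [E_mulVec, E_mulVec, map_sum, map_sum]
  refine Finset.sum_congr rfl fun k _ => ?_
  rw [map_nsmul, map_nsmul]
  congr 1
  exact hp _ _ _

/-- the torus element preserves the quadratic form -/
theorem quad_T {Qf : (ι → F) → F} (hQ : IsNondegenerateQuadraticForm Qf) (h2 : (2 : F) = 0) {x : GL ι F}
    (hx : x ^ 23 = 1) (hxQ : ∀ v, Qf ((x : Matrix ι ι F) *ᵥ v) = Qf v) (v : ι → F) :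
    Qf (T (x : Matrix ι ι F) *ᵥ v) = Qf v := by
  set X : Matrix ι ι F := (x : Matrix ι ι F) with hX
  have hX23 : X ^ 23 = 1 := pow_mat hx
  have h2M : (2 : Matrix ι ι F) = 0 := two_mat h2
  have hpol : ∀ u v, QuadraticMap.polar Qf (X *ᵥ u) (X *ᵥ v) = QuadraticMap.polar Qf u v := by
    intro u v
    change Qf (X *ᵥ u + X *ᵥ v) - Qf (X *ᵥ u) - Qf (X *ᵥ v) = Qf (u + v) - Qf u - Qf v
    rw [← Matrix.mulVec_add, hxQ, hxQ, hxQ]
  have hadj : ∀ u v, QuadraticMap.polar Qf (X *ᵥ u) v = QuadraticMap.polar Qf u ((X ^ 22) *ᵥ v) := by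
    intro u v
    rw [← hpol u ((X ^ 22) *ᵥ v), Matrix.mulVec_mulVec, ← pow_succ', hX23, Matrix.one_mulVec]
  have hpT : ∀ u v, QuadraticMap.polar Qf (T X *ᵥ u) (T X *ᵥ v) = QuadraticMap.polar Qf u v := by
    intro u v
    have h3 : (T (X ^ 22)) * T X = 1 := (TGL h2 x hx).inv_val
    rw [T, form_E hQ.polar_bilinear hadj, Matrix.mulVec_mulVec]
    change QuadraticMap.polar Qf u ((T (X ^ 22) * T X) *ᵥ v) = _
    rw [h3, Matrix.one_mulVec]
  let φ : (ι → F) →+ F := AddMonoidHom.mk' (fun v => Qf (T X *ᵥ v) - Qf v) (by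
    intro u v
    have h3 := hpT u v
    change Qf (T X *ᵥ u + T X *ᵥ v) - Qf (T X *ᵥ u) - Qf (T X *ᵥ v) = Qf (u + v) - Qf u - Qf v at h3
    rw [← Matrix.mulVec_add] at h3
    linear_combination h3)
  have hφ : ∀ v, φ v = Qf (T X *ᵥ v) - Qf v := fun v => rfl
  have hTX : T X * X = X * T X := E_comm X t
  have hφX : ∀ v, φ (X *ᵥ v) = φ v := by
    intro v
    rw [hφ, hφ, Matrix.mulVec_mulVec, hTX, ← Matrix.mulVec_mulVec, hxQ, hxQ]
  have hφp : ∀ (n : ℕ) (v : ι → F), φ ((X ^ n) *ᵥ v) = φ v := by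
    intro n
    induction n with
    | zero => intro v; rw [pow_zero, Matrix.one_mulVec]
    | succ n ih => intro v; rw [pow_succ, ← Matrix.mulVec_mulVec, ih, hφX]
  have h3 : φ (E X (fun _ => 1) *ᵥ v) = φ v := by
    rw [E_mulVec, map_sum]
    simp only [one_smul, hφp]
    rw [Finset.sum_const, Finset.card_univ, ZMod.card, show 23 = 11 * 2 + 1 from rfl, add_smul, one_smul, mul_smul,
      two_smul, ← two_mul, h2, zero_mul, smul_zero, zero_add]
  have h4 : φ (E X (fun _ => 1) *ᵥ v) = 0 := by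
    rw [hφ, Matrix.mulVec_mulVec, T_norm hX23 h2M, sub_self]
  rw [h3, hφ, sub_eq_zero] at h4
  exact h4

/-- conjugation -/
theorem conj_E {x u : GL ι F} {k : ℕ} (h : u * x * u⁻¹ = x ^ k) (a : ZMod 23 → ℕ) :
    (u : Matrix ι ι F) * E (x : Matrix ι ι F) a * ((u⁻¹ : GL ι F) : Matrix ι ι F) = E ((x : Matrix ι ι F) ^ k) a := by
  have hp : ∀ n : ℕ, (u : Matrix ι ι F) * (x : Matrix ι ι F) ^ n * ((u⁻¹ : GL ι F) : Matrix ι ι F) =
      ((x : Matrix ι ι F) ^ k) ^ n := by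
    intro n
    rw [← Units.val_pow_eq_pow_val, ← Units.val_mul, ← Units.val_mul, ← conj_pow, h, Units.val_pow_eq_pow_val,
      Units.val_pow_eq_pow_val]
  rw [E, Finset.mul_sum, Finset.sum_mul, E]
  refine Finset.sum_congr rfl fun i _ => ?_
  rw [mul_smul_comm, smul_mul_assoc, hp]

/-- elements acting on `⟨x⟩` non-trivially act non-trivially on the torus element -/
theorem conj_TGL (h2 : (2 : F) = 0) {x u : GL ι F} (hx : x ^ 23 = 1) {k : ℕ} (h : u * x * u⁻¹ = x ^ k)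
    (h0 : ¬ k ≡ 0 [MOD 23]) (h1 : ¬ k ≡ 1 [MOD 23]) :
    ∃ j : ℕ, u * TGL h2 x hx * u⁻¹ = TGL h2 x hx ^ j ∧ ¬ j ≡ 1 [MOD 89] := by
  obtain ⟨j, hj, hj1⟩ := T_gal (pow_mat hx) (two_mat h2) h0 h1
  refine ⟨j, ?_, hj1⟩
  apply Units.ext
  rw [Units.val_mul, Units.val_mul, Units.val_pow_eq_pow_val]
  exact (conj_E h t).trans hj

theorem TGL_pow (h2 : (2 : F) = 0) {x : GL ι F} (hx : x ^ 23 = 1) : TGL h2 x hx ^ 89 = 1 := by
  apply Units.ext
  rw [Units.val_pow_eq_pow_val]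
  exact T_pow (pow_mat hx) (two_mat h2)

theorem TGL_ne (h2 : (2 : F) = 0) {x : GL ι F} (hx : x ^ 23 = 1) (h1 : x ≠ 1) : TGL h2 x hx ≠ 1 := by
  intro h
  apply h1
  apply Units.ext
  exact T_ne (pow_mat hx) (two_mat h2) (congrArg Units.val h)

theorem orderOf_TGL (h2 : (2 : F) = 0) {x : GL ι F} (hx : x ^ 23 = 1) (h1 : x ≠ 1) : orderOf (TGL h2 x hx) = 89 := by
  have : Fact (Nat.Prime 89) := ⟨by norm_num⟩
  exact orderOf_eq_prime (TGL_pow h2 hx) (TGL_ne h2 hx h1)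

theorem TGL_comm (h2 : (2 : F) = 0) {x : GL ι F} (hx : x ^ 23 = 1) : TGL h2 x hx * x = x * TGL h2 x hx := by
  have h3 : x * x * x⁻¹ = x ^ 1 := by rw [mul_inv_cancel_right, pow_one]
  have h4 := conj_E h3 t
  rw [pow_one] at h4
  have h5 : x * TGL h2 x hx * x⁻¹ = TGL h2 x hx := Units.ext (by
    rw [Units.val_mul, Units.val_mul]
    exact h4)
  rw [mul_inv_eq_iff_eq_mul] at h5
  exact h5.symm

/-- the torus element lies in `Ω` -/
theorem TGL_mem {Qf : (ι → F) → F} (hQ : IsNondegenerateQuadraticForm Qf) (h2 : (2 : F) = 0) {x u : GL ι F}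
    (hx : x ^ 23 = 1) (hxQ : x ∈ Cfsg.isometryGroup F Qf) (huQ : u ∈ Cfsg.isometryGroup F Qf) {k : ℕ}
    (h : u * x * u⁻¹ = x ^ k) (h0 : ¬ k ≡ 0 [MOD 23]) (h1 : ¬ k ≡ 1 [MOD 23]) : TGL h2 x hx ∈ omegaGL Qf := by
  obtain ⟨j, hj, hj1⟩ := conj_TGL h2 hx h h0 h1
  have hT : TGL h2 x hx ∈ Cfsg.isometryGroup F Qf := fun v _ => quad_T hQ h2 hx (fun v => hxQ v v) v
  have hc : TGL h2 x hx ^ j * (TGL h2 x hx)⁻¹ ∈ omegaGL Qf := by
    rw [← hj]
    exact ⟨⁅(⟨u, huQ⟩ : Cfsg.isometryGroup F Qf), (⟨TGL h2 x hx, hT⟩ : Cfsg.isometryGroup F Qf)⁆,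
      Subgroup.commutator_mem_commutator (Subgroup.mem_top _) (Subgroup.mem_top _), rfl⟩
  have hco : IsCoprime ((j : ℤ) - 1) 89 := by
    rw [Int.isCoprime_iff_gcd_eq_one, Int.gcd_comm, ← Int.isCoprime_iff_gcd_eq_one]
    refine (Int.prime_iff_natAbs_prime.2 (by norm_num)).coprime_iff_not_dvd.2 ?_
    intro hd
    apply hj1
    have := (Int.natCast_modEq_iff (a := j) (b := 1) (n := 89)).1 ((Int.modEq_iff_dvd.2 (by exact_mod_cast hd)).symm)
    exact this
  obtain ⟨a, b, hab⟩ := hco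
  have h3 : TGL h2 x hx = (TGL h2 x hx ^ j * (TGL h2 x hx)⁻¹) ^ a := by
    have h4 : TGL h2 x hx ^ j * (TGL h2 x hx)⁻¹ = TGL h2 x hx ^ ((j : ℤ) - 1) := by
      rw [_root_.zpow_sub, zpow_natCast, _root_.zpow_one]
    have h5 : TGL h2 x hx ^ (89 : ℤ) = 1 := by
      rw [← TGL_pow h2 hx, ← zpow_natCast]
      rfl
    calc TGL h2 x hx = TGL h2 x hx ^ (a * ((j : ℤ) - 1) + b * 89) := by rw [hab, _root_.zpow_one]
      _ = _ := by
        rw [h4, _root_.zpow_add, mul_comm a, _root_.zpow_mul, mul_comm b, _root_.zpow_mul, h5, _root_.one_zpow, mul_one]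
  rw [h3]
  exact Subgroup.zpow_mem _ hc a

end form

end Cfsg.Agent.H840.T23
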