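import Cfsg.Agent.H840.EP.CoTwo
import Cfsg.Agent.H840.EP.Torus23
import Cfsg.Agent.H948.EP.CoTorus
import Cfsg.Agent.H921.SporCo
import Cfsg.Agent.S2043
import Cfsg.Agent.S0399

/-!
# S3499-V: the Conway group `Co₁` (helper840; group side of the torus argument by helper948)

Dimension at least 20 in every characteristic; the order bounds leave the orthogonal groups over the field of order 2.
There an element `x` of order 23 commutes with an element of order 89 of `Ω`, and `H948.EP.torus_false` applies.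
-/

set_option autoImplicit false
set_option maxRecDepth 100000

namespace Cfsg.Agent.H840.EP.CoOne

open Subgroup Cfsg Cfsg.Agent.H284 Cfsg.Agent.H419.EP Cfsg.Agent.H59.EP Cfsg.Agent.H840.EP
open Cfsg.Agent.H912.Bd Cfsg.Agent.H915.LD Cfsg.Agent.H921.Spor
open scoped MatrixGroups

variable {Q : Type} [Group Q] [Finite Q] {A : Subgroup Q} {Γ : Subgroup (MulAut Q)} {ι : Type} [Fintype ι]
    [DecidableEq ι] {F : Type} [Field F] [Fintype F] {S P : Subgroup (GL ι F)}

theorem card_co : Nat.card Spor.Co1 = 4157776806543360000 := Cfsg.Agent.S0399.result.2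

/-- a Frobenius configuration in `Co₁` -/
theorem exists_frob : ∃ (x u : Spor.Co1) (k : ℕ), orderOf x = 23 ∧ u * x * u⁻¹ = x ^ k ∧ ¬ k ≡ 1 [MOD 23] := by
  obtain ⟨E, e₀, S, hfin, hE, hEr, he₀, he₁, hm, hS, hd⟩ := Co.Co1_twentythree
  have h23 : Fact (Nat.Prime 23) := ⟨by norm_num⟩
  have hfinC : Finite Spor.Co1 := Nat.finite_of_card_ne_zero (by rw [card_co]; norm_num)
  obtain ⟨s, hs, t, ht, hst⟩ := Finset.one_lt_card.1 (show 1 < S.card by rw [hm]; norm_num)
  obtain ⟨e, he, hee⟩ := hd s hs t ht hst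
  have he1 : e ≠ 1 := by
    rintro rfl
    apply he₁
    rw [← hee]
    group
  -- the order of `E`
  have hcE : Nat.card E = 23 := by
    obtain ⟨a, ha⟩ := (IsPGroup.iff_card (p := 23)).1 hEr
    have h1 : 23 ^ a ∣ 4157776806543360000 := by
      rw [← ha, ← card_co]
      exact E.card_subgroup_dvd_card
    have h2 : a ≤ 1 := by
      by_contra hcon
      push Not at hcon
      have h3 : 23 ^ 2 ∣ 4157776806543360000 := (pow_dvd_pow 23 hcon).trans h1
      revert h3
      norm_num
    interval_cases a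
    · exfalso
      rw [pow_zero, Subgroup.card_eq_one] at ha
      rw [ha, Subgroup.mem_bot] at he
      exact he1 he
    · rw [ha, pow_one]
  have hord : orderOf e = 23 := by
    have h1 : orderOf (⟨e, he⟩ : E) ∣ 23 := by
      rw [← hcE]
      exact orderOf_dvd_natCard _
    rw [← Subgroup.orderOf_coe] at h1
    rcases (Nat.dvd_prime h23.out).1 h1 with h2 | h2
    · exact absurd (orderOf_eq_one_iff.1 h2) he1
    · exact h2
  have hz : zpowers e = E := by
    apply Subgroup.eq_of_le_of_card_ge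
    · rw [zpowers_le]; exact he
    · rw [hcE, Nat.card_zpowers, hord]
  have hnat : ∀ z ∈ E, ∃ j : ℕ, z = e ^ j := by
    intro z hz'
    rw [← hz] at hz'
    obtain ⟨j, hj⟩ := (Submonoid.mem_powers_iff _ _).1 (mem_powers_iff_mem_zpowers.2 hz')
    exact ⟨j, hj.symm⟩
  have key : ∀ u, (∀ e ∈ E, u * e * u⁻¹ ∈ E) → u * e * u⁻¹ ≠ e → ∃ (x u : Spor.Co1) (k : ℕ), orderOf x = 23 ∧
      u * x * u⁻¹ = x ^ k ∧ ¬ k ≡ 1 [MOD 23] := by
    intro u hu hne
    obtain ⟨k, hk⟩ := hnat _ (hu e he)
    refine ⟨e, u, k, hord, hk, ?_⟩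
    intro h1
    apply hne
    rw [hk]
    have h2 := pow_eq_pow_iff_modEq.2 (show k ≡ 1 [MOD orderOf e] by rw [hord]; exact h1)
    rwa [pow_one] at h2
  by_cases h1 : s * e * s⁻¹ = e
  · by_cases h2 : t * e * t⁻¹ = e
    · exfalso
      rw [h1, h2, mul_inv_cancel] at hee
      exact he₁ hee.symm
    · exact key t (hS t ht) h2
  · exact key s (hS s hs) h1

/-- the case of orthogonal groups over the field of order 2 -/
theorem orth (b : Big A Γ S P) (e : socle P ≃* Spor.Co1) (hF : Fintype.card F = 2) {Qf : (ι → F) → F}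
    (hQ : Cfsg.Geo.IsNondegenerateQuadraticForm Qf) (hS : S = Cfsg.Geo.omegaGL Qf) : False := by
  have hFu : ∀ c : Fˣ, c = 1 := by
    intro c
    have h1 : c ^ (Fintype.card F - 1) = 1 := by
      apply Units.ext
      rw [Units.val_pow_eq_pow_val]
      exact FiniteField.pow_card_sub_one_eq_one (c : F) c.ne_zero
    rw [hF] at h1
    simpa using h1
  have hsc : ∀ g : GL ι F, g ∈ Cfsg.Geo.scalars ι F → g = 1 := by
    intro g hg
    obtain ⟨c, hc⟩ := (Cfsg.Geo.mem_scalars_iff _).1 hg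
    rw [hFu c] at hc
    apply Units.ext
    rw [hc]
    simp
  have h2F : (2 : F) = 0 := by
    have h3 := FiniteField.cast_card_eq_zero F
    rw [hF] at h3
    exact_mod_cast h3
  have hinj : Function.Injective b.m.π := by
    rw [injective_iff_map_eq_one]
    intro s hs
    exact Subtype.ext (hsc _ ((b.m.ker s).1 hs))
  -- lift to `P`
  have hbij : Function.Bijective (QuotientGroup.mk' ((Cfsg.Geo.scalars ι F).subgroupOf P)) := by
    refine ⟨?_, QuotientGroup.mk'_surjective _⟩
    rw [injective_iff_map_eq_one]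
    intro s hs
    have h1 : s ∈ (Cfsg.Geo.scalars ι F).subgroupOf P := (QuotientGroup.eq_one_iff s).1 hs
    exact Subtype.ext (hsc _ (Subgroup.mem_subgroupOf.1 h1))
  let f : Spor.Co1 ≃* P := e.symm.trans (MulEquiv.ofBijective _ hbij).symm
  obtain ⟨x₀, u₀, k, hx₀, hux₀, hk⟩ := exists_frob
  set x : GL ι F := (f x₀ : GL ι F) with hx
  set u : GL ι F := (f u₀ : GL ι F) with hu
  have hxo : orderOf x = 23 := by
    rw [hx, Subgroup.orderOf_coe, MulEquiv.orderOf_eq, hx₀]
  have hux : u * x * u⁻¹ = x ^ k := by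
    have h1 := congrArg (fun z => ((f z : P) : GL ι F)) hux₀
    simpa [hx, hu] using h1
  have hx23 : x ^ 23 = 1 := by rw [← hxo, pow_orderOf_eq_one]
  have hx1 : x ≠ 1 := by
    intro h
    rw [h, orderOf_one] at hxo
    norm_num at hxo
  have hk0 : ¬ k ≡ 0 [MOD 23] := by
    intro h
    have h1 := pow_eq_pow_iff_modEq.2 (show k ≡ 0 [MOD orderOf x] by rw [hxo]; exact h)
    rw [pow_zero, ← hux] at h1
    exact hx1 (conj_eq_one_iff.1 h1)
  have hPS : P ≤ S := b.le_S
  have hSI : S ≤ Cfsg.isometryGroup F Qf := by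
    rw [hS]
    rintro _ ⟨y, -, rfl⟩
    exact y.2
  have hxP : x ∈ P := (f x₀).2
  have huP : u ∈ P := (f u₀).2
  have hT : T23.TGL h2F x hx23 ∈ S := by
    rw [hS]
    exact T23.TGL_mem hQ h2F hx23 (hSI (hPS hxP)) (hSI (hPS huP)) hux hk0 hk
  refine Cfsg.Agent.H948.EP.torus_false b e (y := b.m.π ⟨x, hPS hxP⟩) (t := b.m.π ⟨T23.TGL h2F x hx23, hT⟩) ?_ ?_ ?_ ?_ ?_
  · exact (b.m.mem_hat_iff ⟨x, hPS hxP⟩).1 (b.core.le hxP)
  · rw [orderOf_injective _ hinj, ← Subgroup.orderOf_coe]
    exact hxo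
  · rw [← map_mul, ← map_mul]
    congr 1
    exact Subtype.ext (T23.TGL_comm h2F hx23)
  · rw [orderOf_injective _ hinj, ← Subgroup.orderOf_coe]
    exact T23.orderOf_TGL h2F hx23 hx1
  · intro w m hw hm
    obtain ⟨w, rfl⟩ := b.m.surj w
    have h1 : (w : GL ι F) * x * (w : GL ι F)⁻¹ = x ^ m := by
      have h2 : w * ⟨x, hPS hxP⟩ * w⁻¹ = (⟨x, hPS hxP⟩ : S) ^ m := hinj (by
        rw [map_mul, map_mul, map_inv, map_pow]
        exact hw)
      exact congrArg Subtype.val h2
    have hm0 : ¬ m ≡ 0 [MOD 23] := by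
      intro h
      have h2 := pow_eq_pow_iff_modEq.2 (show m ≡ 0 [MOD orderOf x] by rw [hxo]; exact h)
      rw [pow_zero, ← h1] at h2
      exact hx1 (conj_eq_one_iff.1 h2)
    obtain ⟨j, hj, hj1⟩ := T23.conj_TGL h2F hx23 h1 hm0 hm
    refine ⟨j, ?_, hj1⟩
    have h2 : w * ⟨T23.TGL h2F x hx23, hT⟩ * w⁻¹ = (⟨T23.TGL h2F x hx23, hT⟩ : S) ^ j := Subtype.ext hj
    rw [← map_mul, ← map_inv, ← map_mul, h2, map_pow]

/-- the factorisation of the order -/
def l : List (ℕ × ℕ) := [(2, 21), (3, 9), (5, 4), (7, 2), (11, 1), (13, 1), (23, 1)]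

theorem row (hg : TwoGen.{0}) (b : Big A Γ S P) (h : Spor.IsoCo1 (socle P)) : False := by
  obtain ⟨e⟩ := h
  have : Finite Spor.Co1 := Nat.finite_of_card_ne_zero (by rw [card_co]; norm_num)
  have hc : Nat.card A = (l.map fun x => x.1 ^ x.2).prod := by
    rw [card_A b e Cfsg.Agent.S2069.result, card_co]
    decide +kernel
  have hi := index_le_ubt hg b l (by decide +kernel) (by decide +kernel) hc (by decide +kernel)
  have hn : 20 ≤ Fintype.card ι := by
    by_cases h3 : ((3 : ℕ) : F) = 0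
    · have h5 : (5 : F) ≠ 0 := by
        intro h5
        have h6 : (1 : F) = ((3 : ℕ) : F) * 2 - 5 := by push_cast; ring
        rw [h3, h5, zero_mul, sub_zero] at h6
        exact one_ne_zero h6
      exact le_card b e Cfsg.Agent.S2043.result (r := 5) (by norm_num) (McL.Co1_five h5)
    · exact le_card b e Cfsg.Agent.S2043.result (r := 3) (by norm_num) (McL.Co1_three.bd (F := F) (by norm_num) h3)
  rcases Nat.lt_or_ge (Fintype.card F) 3 with hF | hF
  · have hF2 : Fintype.card F = 2 := by have := b.two_le; omega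
    rcases b.kind with ⟨-, ho, -, -, -⟩ | ⟨f, -, -, h3, -, -, -⟩ | ⟨q, hq, σ, f, -, -, -, ho, -, -⟩ |
      ⟨Qf, hQ, hS, -, -⟩
    · have h1 : 2 ^ 398 ≤ Nat.card Q := by
        refine le_trans (le_trans (Nat.pow_le_pow_right (by norm_num) ?_) (Nat.pow_le_pow_left b.two_le _)) ho
        have := Nat.pow_le_pow_left hn 2
        omega
      rw [← A.card_mul_index, hc] at h1
      have h2 := h1.trans (Nat.mul_le_mul_left _ hi)
      exact absurd h2 (by decide +kernel)
    · omega
    · rw [hF2] at hq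
      have : q < 2 := by
        by_contra hcon
        push Not at hcon
        have := Nat.pow_le_pow_left hcon 2
        omega
      interval_cases q <;> omega
    · exact orth b e hF2 hQ hS
  · exact kill b hc hi hF hn (by norm_num) (by decide +kernel)

/-- the target in the form of `H419.EP.Big` -/
theorem target (hg : TwoGen.{0}) : BigOf (fun L _ => Spor.IsoCo1 L) := fun b h => row hg b h

end Cfsg.Agent.H840.EP.CoOne
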