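import Cfsg.Agent.H840.EP.Base
import Cfsg.Agent.H840.EP.Dual
import Cfsg.Agent.H921.SporMcL
import Cfsg.Agent.S2044
import Cfsg.Agent.S2070

/-!
# S3499-V: the Conway group `Co₂` (helper840)

Dimension at least 20 in every characteristic; over the field of order 2 the element of order 23 of an orthogonal
group needs dimension 22.
-/

set_option autoImplicit false
set_option maxRecDepth 100000

namespace Cfsg.Agent.H840.EP.CoTwo

open Subgroup Cfsg Cfsg.Agent.H284 Cfsg.Agent.H419.EP Cfsg.Agent.H59.EP Cfsg.Agent.H840.EP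
open Cfsg.Agent.H912.Bd Cfsg.Agent.H915.LD Cfsg.Agent.H921.Spor

variable {Q : Type} [Group Q] [Finite Q] {A : Subgroup Q} {Γ : Subgroup (MulAut Q)} {ι : Type} [Fintype ι]
    [DecidableEq ι] {F : Type} [Field F] [Fintype F] {S P : Subgroup (GL ι F)}

/-- an element of prime order in `P` -/
theorem exists_order {s : ℕ} (hs : s.Prime) (hd : s ∣ Nat.card (socle P)) : ∃ x ∈ P, x ≠ 1 ∧ x ^ s = 1 := by
  have h1 : s ∣ Nat.card P := hd.trans (Subgroup.card_quotient_dvd_card _)
  have : Fact s.Prime := ⟨hs⟩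
  have : Finite P := Subtype.finite
  obtain ⟨x, hx⟩ := exists_prime_orderOf_dvd_card' s h1
  refine ⟨x, x.2, ?_, ?_⟩
  · intro h
    have h2 : x = 1 := Subtype.ext h
    rw [h2, orderOf_one] at hx
    exact hs.one_lt.ne hx
  · have h2 : x ^ s = 1 := by rw [← hx, pow_orderOf_eq_one]
    rw [← Subgroup.coe_pow, h2, Subgroup.coe_one]

omit [Fintype F] in
/-- the polar form is invariant -/
theorem polar_fix {Qf : (ι → F) → F} {x : GL ι F} (hx : x ∈ Cfsg.Geo.omegaGL Qf) (u v : ι → F) :
    QuadraticMap.polar Qf ((x : Matrix ι ι F).mulVec u) ((x : Matrix ι ι F).mulVec v) = QuadraticMap.polar Qf u v := by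
  obtain ⟨y, -, rfl⟩ := hx
  have h1 : ∀ w, Qf (((y : GL ι F) : Matrix ι ι F).mulVec w) = Qf w := fun w => y.2 w w
  change Qf _ - Qf _ - Qf _ = _
  rw [← Matrix.mulVec_add]
  change Qf (((y : GL ι F) : Matrix ι ι F).mulVec (u + v)) - Qf (((y : GL ι F) : Matrix ι ι F).mulVec u) -
    Qf (((y : GL ι F) : Matrix ι ι F).mulVec v) = _
  rw [h1, h1, h1]
  rfl

/-- orthogonal groups over the field of order 2: an element of order 23 needs dimension 22 -/
theorem le_orth {Qf : (ι → F) → F} (hQ : Cfsg.Geo.IsNondegenerateQuadraticForm Qf) (hS : P ≤ Cfsg.Geo.omegaGL Qf)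
    (hF : Fintype.card F = 2) (hd : 23 ∣ Nat.card (socle P)) : 22 ≤ Fintype.card ι := by
  obtain ⟨x, hxP, hx1, hx⟩ := exists_order (P := P) (by norm_num) hd
  have h2 : ((23 : ℕ) : F) ≠ 0 := by
    intro h
    have h3 : ((2 : ℕ) : F) = 0 := by
      rw [← hF]
      exact FiniteField.cast_card_eq_zero F
    have h4 : ((23 : ℕ) : F) = ((2 : ℕ) : F) * 11 + 1 := by push_cast; ring
    rw [h4, h3, zero_mul, zero_add] at h
    exact one_ne_zero h
  have h3 : ∀ k < 23, 0 < k → ∃ j < 11, 2 ^ j % 23 = k ∨ (23 - 1) * 2 ^ j % 23 = k := by decide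
  exact le_card_of_orbit hQ.polar_bilinear hQ.nondegenerate (fun u v => polar_fix (hS hxP) u v)
    (s := 23) (by norm_num) h2 hx1 hx (by
      intro k hk hk0
      obtain ⟨j, -, hj⟩ := h3 k hk hk0
      exact ⟨j, by rw [hF]; exact hj⟩)

/-- the factorisation of the order -/
def l : List (ℕ × ℕ) := [(2, 18), (3, 6), (5, 3), (7, 1), (11, 1), (23, 1)]

theorem row (hg : TwoGen.{0}) (b : Big A Γ S P) (h : Spor.IsoCo2 (socle P)) : False := by
  obtain ⟨e⟩ := h
  have hcT : Nat.card Cfsg.Spor.Co2 = 42305421312000 := Cfsg.Agent.H49.CoStab.card_co2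
  have : Finite Cfsg.Spor.Co2 := Nat.finite_of_card_ne_zero (by rw [hcT]; norm_num)
  have hc : Nat.card A = (l.map fun x => x.1 ^ x.2).prod := by
    rw [card_A b e Cfsg.Agent.S2070.result, hcT]
    decide +kernel
  have hi := index_le_ubt hg b l (by decide +kernel) (by decide +kernel) hc (by decide +kernel)
  have hn : 20 ≤ Fintype.card ι := by
    by_cases h3 : ((3 : ℕ) : F) = 0
    · have h5 : (5 : F) ≠ 0 := by
        intro h5
        have h6 : (1 : F) = ((3 : ℕ) : F) * 2 - 5 := by push_cast; ring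
        rw [h3, h5, zero_mul, sub_zero] at h6
        exact one_ne_zero h6
      exact le_card b e Cfsg.Agent.S2044.result (r := 5) (by norm_num) (McL.Co2_five h5)
    · exact le_card b e Cfsg.Agent.S2044.result (r := 3) (by norm_num) (McL.Co2_three.bd (F := F) (by norm_num) h3)
  rcases Nat.lt_or_ge (Fintype.card F) 3 with hF | hF
  · have hF2 : Fintype.card F = 2 := by have := b.two_le; omega
    rcases b.kind with ⟨-, ho, -, -, -⟩ | ⟨f, -, -, h3, -, -, -⟩ | ⟨q, hq, σ, f, -, -, -, ho, -, -⟩ |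
      ⟨Qf, hQ, hS, -, -⟩
    · have h1 : 2 ^ 398 ≤ Nat.card Q := by
        refine le_trans (le_trans (Nat.pow_le_pow_right (by norm_num) ?_) (Nat.pow_le_pow_left b.two_le _)) ho
        have := Nat.pow_le_pow_left hn 2
        omega
      rw [← A.card_mul_index, hc] at h1
      have h2 := h1.trans (Nat.mul_le_mul_left _ hi)
      exact absurd h2 (by decide +kernel)
    · omega
    · rw [hF2] at hq
      have : q < 2 := by
        by_contra hcon
        push Not at hcon
        have := Nat.pow_le_pow_left hcon 2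
        omega
      interval_cases q <;> omega
    · have h22 : 22 ≤ Fintype.card ι := by
        refine le_orth hQ (hS ▸ b.le_S) hF2 ?_
        rw [Nat.card_congr e.toEquiv, hcT]
        norm_num
      exact kill b hc hi b.two_le h22 (by norm_num) (by decide +kernel)
  · exact kill b hc hi hF hn (by norm_num) (by decide +kernel)

/-- the target in the form of `H419.EP.Big` -/
theorem target (hg : TwoGen.{0}) : BigOf (fun L _ => Spor.IsoCo2 L) := fun b h => row hg b h

end Cfsg.Agent.H840.EP.CoTwo
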