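import Cfsg.Agent.H419.EP.Big
import Cfsg.Agent.H912.Reidx
import Cfsg.Agent.H489.DegBase
import Cfsg.Agent.H59.EP.UBGen
import Cfsg.Agent.H173.EP.LineBound

/-!
# S3499-V: sporadic rows, common part (helper840)

* `le_card` : lower bounds `Bd F r m T` for the dimension in the situation `Big`;
* `card_A` : `|A| = |L|` if `A` has socle `≅ L`, `Out L = 1`;
* `kill` : the numeric contradiction.
-/

set_option autoImplicit false

namespace Cfsg.Agent.H840.EP

open Subgroup Cfsg Cfsg.Agent.H284 Cfsg.Agent.H419.EP Cfsg.Agent.H59.EP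
open Cfsg.Agent.H912.Bd Cfsg.Agent.H915.LD Cfsg.Agent.H912.Rx
open scoped MatrixGroups

variable {Q : Type} [Group Q] [Finite Q] {A : Subgroup Q} {Γ : Subgroup (MulAut Q)} {ι : Type} [Fintype ι]
    [DecidableEq ι] {F : Type} [Field F] [Fintype F] {S P : Subgroup (GL ι F)}

/-- the core in coordinates `Fin n` -/
theorem exists_core (b : Big A Γ S P) : ∃ P' : Subgroup (GL (Fin (Fintype.card ι)) F), Core P' ∧
    Nonempty (Soc P' ≃* socle P) :=
  ⟨re (Fintype.equivFin ι) P, core_re _ (core_of_residual b.core), ⟨(socEquiv (Fintype.equivFin ι)).symm⟩⟩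

/-- a lower bound for the dimension -/
theorem le_card (b : Big A Γ S P) {T : Type} [Group T] (e : socle P ≃* T) {c : ℕ}
    (hT : Cfsg.HasCyclicSchurMultiplier T c) {r m : ℕ} (hc : c.Coprime r) (h : Bd F r m T) : m ≤ Fintype.card ι := by
  obtain ⟨P', hC, ⟨e'⟩⟩ := exists_core b
  exact H489.Deg.le_of_bd hC (e'.trans e) hT hc h

/-- the order of `A` when the socle has no outer automorphisms -/
theorem card_A (b : Big A Γ S P) {L : Type} [Group L] [Finite L] (e : socle P ≃* L)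
    (hO : Nat.card (Cfsg.Out L) = 1) : Nat.card A = Nat.card L := by
  have h := b.hasSoc' e
  apply le_antisymm
  · refine h.card_le.trans ?_
    rw [Subgroup.card_eq_card_quotient_mul_card_subgroup (Cfsg.Inn L)]
    have h1 : Nat.card (MulAut L ⧸ Cfsg.Inn L) = 1 := hO
    rw [h1, one_mul]
    exact Nat.card_le_card_of_surjective _ (MonoidHom.rangeRestrict_surjective _)
  · exact Nat.le_of_dvd Nat.card_pos h.card_dvd

/-- no abelian normal subgroup -/
theorem noAb (b : Big A Γ S P) : ∀ K : Subgroup Q, K ≤ A → (∀ a ∈ A, ∀ k ∈ K, a * k * a⁻¹ ∈ K) →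
    (∀ a ∈ K, ∀ b ∈ K, a * b = b * a) → K = ⊥ := fun _ h1 h2 h3 =>
  b.hasSoc.no_abelian b.core.simple (fun h => b.core.nonabelian ⟨⟨h⟩⟩) h1 h2 h3

/-- the numeric contradiction -/
theorem kill {a i q n : ℕ} (b : Big A Γ S P) (ha : Nat.card A = a) (hi : A.index ≤ i) (hq : q ≤ Fintype.card F)
    (hn : n ≤ Fintype.card ι) (hqp : 1 ≤ q) (h : 8 * (a * i) < q ^ (n * (n - 1) / 2)) : False := by
  have h1 := b.ord
  rw [← A.card_mul_index, ha] at h1
  have h2 : q ^ (n * (n - 1) / 2) ≤ Fintype.card F ^ (Fintype.card ι * (Fintype.card ι - 1) / 2) :=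
    (Nat.pow_le_pow_right hqp (Nat.div_le_div_right (Nat.mul_le_mul hn (by omega)))).trans
      (Nat.pow_le_pow_left hq _)
  have h3 : 8 * (a * A.index) ≤ 8 * (a * i) := Nat.mul_le_mul_left _ (Nat.mul_le_mul_left _ hi)
  omega

/-- the bound of UB1 + UB2 for `|A| = ∏ p ^ e` -/
def ubt (l : List (ℕ × ℕ)) : ℕ :=
  1 + ((l.map fun x => gal x.1 x.2).sum * ((l.map fun x => x.1 ^ x.2).prod / 6) +
    (l.map fun x => x.1 ^ x.2).prod ^ 2 / 60 + (l.map fun x => x.1 ^ x.2).prod ^ 3 / 12744000) *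
      (2 * ((l.map fun x => x.1 ^ x.2).prod / 6))

/-- **UB1 + UB2** -/
theorem index_le_ubt (hg : TwoGen.{0}) (b : Big A Γ S P) (l : List (ℕ × ℕ)) (h1 : ∀ x ∈ l, x.1.Prime ∧ 0 < x.2)
    (h2 : (l.map Prod.fst).Nodup) (hc : Nat.card A = (l.map fun x => x.1 ^ x.2).prod)
    (hB : (l.map fun x => x.1 ^ x.2).prod < 60 ^ 61) : A.index ≤ ubt l := by
  have h3 := EPT.ncard_le_gen_dvd b.ept hg (noAb b) l h1 h2 (dvd_of_eq hc) hB
  refine index_le_of h3 (Cfsg.Agent.H173.EP.ub1 b.simple b.ept (by norm_num) fun _ hx =>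
    EPT.six_le b.ept (noAb b) hx) ?_
  rw [hc]
  exact le_rfl

end Cfsg.Agent.H840.EP
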